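import Groth.Agent.H02CA.FibreVanish.Main
import Groth.Agent.H16Derived.Dual.Main
import Groth.Agent.H16Derived.Dual.BiDual
import Groth.Agent.H16Derived.ShiftHom
import Groth.Agent.H11Tilde.TwistPow
import Groth.Agent.H8Props.RelPCBaseChange

/-!
# Maps to a skyscraper sheaf and the dual of a perfect object
-/

set_option autoImplicit false
set_option linter.style.haveILetI false

universe u

open CategoryTheory CategoryTheory.Limits AlgebraicGeometry TopologicalSpace Opposite

attribute [local instance] HasDerivedCategory.standard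

namespace Groth.Agent.H02CA.FibreVanish

open H16Derived H16Derived.KFlat H16Derived.KFlat.Stalk H16Derived.ProjFormula H16Derived.Dual

section point

variable {Z : Scheme.{u}} [Subsingleton Z]

/-- On a one-point scheme, cohomology is detected by maps from shifts of the structure sheaf. -/
theorem isZero_HD_of_hom_single (L : DCoh.D Z) (i : ℤ)
    (h : ∀ φ : (DerivedCategory.singleFunctor Z.Modules i).obj (Coh.structureModule Z) ⟶ L, φ = 0) :
    IsZero (DCoh.HD L i) := by
  haveI := preservesHomology_gammaAb (Z := Z)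
  let C := DerivedCategory.Q.objPreimage L
  let e : DerivedCategory.Q.obj C ≅ L := DerivedCategory.Q.objObjPreimageIso L
  have key : ∀ a : Γ(C.homology i, (⊤ : Z.Opens)), a = 0 := fun a => by
    haveI : (DCoh.gammaAb Z).PreservesEpimorphisms :=
      (DCoh.gammaAb Z).preservesEpimorphisms_of_map_exact fun S hS => hS.map _
    haveI : Epi ((DCoh.gammaAb Z).map (C.homologyπ i)) := inferInstance
    have hsurj := (AddCommGrpCat.epi_iff_surjective ((DCoh.gammaAb Z).map (C.homologyπ i))).1 inferInstance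
    obtain ⟨s, hs⟩ := hsurj a
    let σ : Coh.structureModule Z ⟶ C.cycles i := H11Tilde.homOfGlobal (C.cycles i) s
    let ψ : (HomologicalComplex.single Z.Modules (ComplexShape.up ℤ) i).obj (Coh.structureModule Z) ⟶ C :=
      HomologicalComplex.mkHomFromSingle (σ ≫ C.iCycles i) (fun j _ => by simp)
    have h0 : DerivedCategory.Q.map ψ = 0 := by
      have := h (((DerivedCategory.singleFunctorIsoCompQ Z.Modules i).app _).hom ≫ DerivedCategory.Q.map ψ ≫ e.hom)
      rwa [Preadditive.IsIso.comp_left_eq_zero, Preadditive.IsIso.comp_right_eq_zero] at this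
    have h1 : HomologicalComplex.homologyMap ψ i = 0 := by
      have := (NatIso.naturality_1 (DerivedCategory.homologyFunctorFactors Z.Modules i) ψ).symm
      simp only [Functor.comp_map, h0, Functor.map_zero, zero_comp, comp_zero] at this
      exact this
    have h2 : σ ≫ C.homologyπ i = 0 := by
      have hc : (HomologicalComplex.singleObjCyclesSelfIso (ComplexShape.up ℤ) i _).inv ≫
          HomologicalComplex.cyclesMap ψ i = σ := by
        rw [← cancel_mono (C.iCycles i), Category.assoc, HomologicalComplex.cyclesMap_i]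
        simp [ψ]
      rw [← hc, Category.assoc, ← HomologicalComplex.homologyπ_naturality, h1, comp_zero, comp_zero]
    have h3 := congr(($h2).app ⊤ (1 : Γ(Z, ⊤)))
    rw [Scheme.Modules.Hom.comp_app] at h3
    refine hs.symm.trans (Eq.trans ?_ h3)
    show (C.homologyπ i).app ⊤ s = (C.homologyπ i).app ⊤ (σ.app ⊤ (1 : Γ(Z, ⊤)))
    congr 1
    rw [H11Tilde.homOfGlobal_app, one_smul, show (homOfLE (le_top : (⊤ : Z.Opens) ≤ ⊤)).op = 𝟙 _ from Subsingleton.elim _ _,
      CategoryTheory.Functor.map_id]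
    rfl
  have hz : IsZero (C.homology i) := by
    refine isZero_of_stalk fun p => @ModuleCat.isZero_of_subsingleton _ _ ((DerSch.stalkFunctor Z p).obj (C.homology i)) ?_
    haveI : Subsingleton Γ(C.homology i, (⊤ : Z.Opens)) := ⟨fun a b => by rw [key a, key b]⟩
    exact (bijective_germ_top' (C.homology i) p).2.subsingleton
  exact hz.of_iso ((DerivedCategory.homologyFunctor _ i).mapIso e.symm ≪≫
    (DerivedCategory.homologyFunctorFactors Z.Modules i).app C)

end point

variable {X : Scheme.{u}}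

/-- `k ⊗^L O[n] = k[n]`. -/
theorem nonempty_T_o (k : DCoh.D X) (n : ℤ) :
    Nonempty (((T X).obj k).obj (o X n) ≅ k⟦n⟧) := by
  let P := DerivedCategory.Q.objPreimage k
  let e : DerivedCategory.Q.obj P ≅ k := DerivedCategory.Q.objObjPreimageIso k
  haveI := isIso_ε P (S X n) (Or.inr (isKFlat_S X n))
  exact ⟨((T X).mapIso e.symm).app _ ≪≫ @asIso _ _ _ _ ((ε X).app (P, S X n)) this ≪≫
    DerivedCategory.Q.mapIso
      (CochainComplex.mapBifunctorShift₂Iso P (S₀ X) (DCoh.tensorBi (X := X)) n ≪≫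
        (shiftFunctor (Cx X) n).mapIso ((tensorS₀Iso X).app P)) ≪≫
    (DerivedCategory.Q.commShiftIso n).app P ≪≫ (shiftFunctor (DCoh.D X) n).mapIso e⟩

/-- `Lf^* O[n] = O[n]`. -/
theorem nonempty_lpull_o {Z : Scheme.{u}} (g : Z ⟶ X) [DCoh.HasLpull g] (n : ℤ) :
    Nonempty ((DCoh.Lpull g).obj (o X n) ≅ o Z n) := by
  obtain ⟨e⟩ := H8Props.RelPC.nonempty_lpull_unit g
  letI := lpullCommShift g
  exact ⟨(DCoh.Lpull g).mapIso ((DerivedCategory.Q.commShiftIso n).app (S₀ X)) ≪≫
    ((DCoh.Lpull g).commShiftIso n).app _ ≪≫ (shiftFunctor (DCoh.D Z) n).mapIso e ≪≫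
    ((DerivedCategory.Q.commShiftIso n).app (S₀ Z)).symm⟩

variable (x : X) (hx : IsClosed ({x} : Set X))

include hx in
/-- `Hom(k, κ(x)[i]) = 0` gives `H^i(k^∨)_x = 0`. -/
theorem notMem_support_ro {k : DCoh.D X} (hk : DCoh.IsPerfect k) (i : ℤ)
    (h : ∀ φ : k ⟶ (shiftFunctor (DCoh.D X) i).obj (DCoh.inD X (Sky.skyM x)), φ = 0) :
    x ∉ CohB1.support (DCoh.HD (ro k) i) := by
  let g := X.fromSpecResidueField x
  haveI : IsClosedImmersion g := isClosed_singleton_iff_isClosedImmersion.mp hx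
  haveI := hasLpull g
  haveI := QCohD.hasRpush g
  let W := (HomologicalComplex.single X.Modules (ComplexShape.up ℤ) 0).obj (DiagKernel.pushO g)
  haveI := hasLTensorCx W
  let m : DCoh.D X := DerivedCategory.Q.obj W
  let em : m ≅ DCoh.inD X (Sky.skyM x) := ((DerivedCategory.singleFunctorIsoCompQ X.Modules 0).app (DiagKernel.pushO g)).symm
  obtain ⟨e₁⟩ := DiagKernel.nonempty_ltensor_iso g W ⟨em⟩
  let ι : (R k).obj m ≅ (DCoh.Rpush g).obj ((DCoh.Lpull g).obj (ro k)) :=
    (θIso hk m).symm ≪≫ H16Derived.Dual.σ m (ro k) ≪≫ (ltensorCxIsoT W).app (ro k) ≪≫ e₁.app (ro k)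
  refine notMem_support_of_lpull (ro k) (isPerfect_ro hk) x i (isZero_HD_of_hom_single _ i fun φ => ?_)
  obtain ⟨et⟩ := nonempty_T_o k (-i)
  obtain ⟨el⟩ := nonempty_lpull_o g (-i)
  let eo : (DerivedCategory.singleFunctor (Spec (X.residueField x)).Modules i).obj (Coh.structureModule _) ≅
      o (Spec (X.residueField x)) (-i) :=
    (((DerivedCategory.singleFunctors (Spec (X.residueField x)).Modules).shiftIso (-i) i 0 (by omega)).app _).symm ≪≫
      (shiftFunctor (DCoh.D (Spec (X.residueField x))) (-i)).mapIso oneIso ≪≫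
      ((DerivedCategory.Q.commShiftIso (-i)).app (S₀ _)).symm
  -- no maps from `k[-i]`
  have h₁ : ∀ f : k⟦-i⟧ ⟶ m, f = 0 :=
    shift_hom_eq_zero (-i) i (by omega) (hom_eq_zero_of_iso (Iso.refl k) ((shiftFunctor _ i).mapIso em.symm) h)
  have h₂ : ∀ f : ((T X).obj (o X (-i))).obj k ⟶ m, f = 0 :=
    hom_eq_zero_of_iso (et.symm ≪≫ H16Derived.Dual.σ k (o X (-i))) (Iso.refl m) h₁
  have h₃ : ∀ f : o X (-i) ⟶ (R k).obj m, f = 0 := fun f =>
    ((adjR k).homEquiv _ _).symm.injective
      ((h₂ _).trans (h₂ (((adjR k).homEquiv (o X (-i)) m).symm 0)).symm)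
  have h₄ : ∀ f : (DCoh.Lpull g).obj (o X (-i)) ⟶ (DCoh.Lpull g).obj (ro k), f = 0 := fun f =>
    ((lpullRpushAdj g).homEquiv _ _).injective
      ((hom_eq_zero_of_iso (Iso.refl _) ι h₃ _).trans (hom_eq_zero_of_iso (Iso.refl _) ι h₃ _).symm)
  exact hom_eq_zero_of_iso (el ≪≫ eo.symm) (Iso.refl _) h₄ φ

end Groth.Agent.H02CA.FibreVanish
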