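import Groth.Agent.H3CAlg.ExtLoc
import Groth.Agent.H4Goren.Hull
import Groth.Prelude.Def_CAlg

/-!
# `Ext^d(R/m, R) ≠ 0` at a regular point of dimension `d`
-/

set_option autoImplicit false
set_option linter.style.haveILetI false

universe u

open CategoryTheory CategoryTheory.Abelian

attribute [local instance] HasDerivedCategory.standard

namespace Groth.Agent.H02CA.FibreVanish

/-- At a Gorenstein point of dimension `d` of a Noetherian ring, `Hom(R/m, R[d]) ≠ 0`. -/
theorem exists_hom_quotient_ne_zero (R : Type u) [CommRing R] [IsNoetherianRing R] (m : Ideal R) [m.IsMaximal]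
    [LocCoh.IsGorensteinLocalRing (Localization.AtPrime m)] (d : ℕ)
    (hd : ringKrullDim (Localization.AtPrime m) = d) :
    ∃ φ : (DerivedCategory.singleFunctor (ModuleCat.{u} R) 0).obj (ModuleCat.of R (R ⧸ m)) ⟶
        ((DerivedCategory.singleFunctor (ModuleCat.{u} R) 0).obj (ModuleCat.of R R))⟦(d : ℤ)⟧, φ ≠ 0 := by
  let A := Localization.AtPrime m
  let S := m.primeCompl
  let M₀ : ModuleCat.{u} (Localization S) := (ModuleCat.of R (R ⧸ m)).localizedModule S
  let N₀ : ModuleCat.{u} (Localization S) := (ModuleCat.of R R).localizedModule S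
  let j : (ModuleCat.of R (R ⧸ m)) →ₗ[R] M₀ :=
    (ModuleCat.of R (R ⧸ m)).localizedModuleMkLinearMap S
  haveI : IsLocalizedModule S j := ModuleCat.localizedModule_isLocalizedModule _ S
  haveI : Module.Finite A M₀ := Module.Finite.of_isLocalizedModule S j
  haveI : Nontrivial M₀ := by
    refine ⟨⟨j (Ideal.Quotient.mk m 1), 0, fun h => ?_⟩⟩
    obtain ⟨c, hc⟩ := (IsLocalizedModule.eq_zero_iff S j).1 h
    refine c.2 ((Ideal.Quotient.eq_zero_iff_mem).1 ?_)
    show Ideal.Quotient.mk m (c : R) = 0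
    rw [← hc]
    show _ = Ideal.Quotient.mk m ((c : R) * 1)
    rw [mul_one]
  have hkill : ∀ r ∈ IsLocalRing.maximalIdeal A, ∀ z : M₀, r • z = 0 := by
    intro r hr z
    obtain ⟨a, s, rfl⟩ := IsLocalization.exists_mk'_eq S r
    have ha : a ∈ m := (IsLocalization.AtPrime.mk'_mem_maximal_iff A m a s).1 hr
    obtain ⟨⟨e, t⟩, hz⟩ := IsLocalizedModule.surj S j z
    refine ((IsLocalization.map_units A s).smul_eq_zero).1 ?_
    refine ((IsLocalization.map_units A t).smul_eq_zero).1 ?_
    rw [smul_smul, smul_smul, mul_assoc, IsLocalization.mk'_spec', mul_comm, mul_smul]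
    rw [algebraMap_smul, algebraMap_smul]
    show a • ((t : R) • z) = 0
    rw [show (t : R) • z = j e from hz, ← map_smul]
    obtain ⟨b, rfl⟩ := Ideal.Quotient.mk_surjective e
    have : a • Ideal.Quotient.mk m b = 0 := Ideal.Quotient.eq_zero_iff_mem.2 (m.mul_mem_right b ha)
    rw [this, map_zero]
  have hdepth : LocCoh.depth A M₀ = 0 := by
    rw [LocCoh.depth, LocCoh.idealDepth, if_neg (H4Depth.maximalIdeal_smul_top_ne_top (R := A) (M := M₀))]
    refine le_antisymm (iSup₂_le fun rs hrs => ?_) bot_le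
    rcases rs with _ | ⟨r, rs⟩
    · simp
    · exfalso
      obtain ⟨z, hz⟩ := exists_ne (0 : M₀)
      have hr := ((RingTheory.Sequence.isWeaklyRegular_cons_iff M₀ r rs).1 hrs.1).1
      exact hz (hr (show r • z = r • 0 by rw [hkill r (hrs.2 r (by simp)) z, smul_zero]))
  have hE : Nontrivial (Ext M₀ (ModuleCat.of A A) d) := not_subsingleton_iff_nontrivial.1 fun h =>
    absurd ((H4Goren.zero_lt_depth_iff A d hd M₀).2 h) (by rw [hdepth]; exact lt_irrefl 0)
  let eN : ModuleCat.of A A ≅ N₀ := by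
    let k : (ModuleCat.of R R) →ₗ[R] N₀ := (ModuleCat.of R R).localizedModuleMkLinearMap S
    haveI : IsLocalizedModule S k := ModuleCat.localizedModule_isLocalizedModule _ S
    refine LinearEquiv.toModuleIso ((IsLocalizedModule.linearEquiv S (Algebra.linearMap R A) k).extendScalarsOfIsLocalization S A)
  obtain ⟨y, hy⟩ := exists_ne (0 : Ext M₀ (ModuleCat.of A A) d)
  obtain ⟨e, s, hs⟩ := (H3CAlg.ext_localization S (ModuleCat.of R R) d (ModuleCat.of R (R ⧸ m)) inferInstance).1
    (y.comp (Ext.mk₀ eN.hom) (add_zero d))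
  refine ⟨Ext.homEquiv e, fun h => hy ?_⟩
  have he : e = 0 := Ext.ext (h.trans (Ext.zero_hom (X := ModuleCat.of R (R ⧸ m)) (Y := ModuleCat.of R R) d).symm)
  rw [he, map_zero] at hs
  have h0 := ((IsLocalization.map_units A s).smul_eq_zero).1 hs
  have := congrArg (fun t => t.comp (Ext.mk₀ eN.inv) (add_zero d)) h0
  have h1 : y.comp ((Ext.mk₀ eN.hom).comp (Ext.mk₀ eN.inv) (zero_add 0)) (add_zero d) = 0 := by
    rw [← Ext.comp_assoc_of_third_deg_zero]
    exact this.trans (Ext.zero_comp _ _ _ _ _)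
  rwa [Ext.mk₀_comp_mk₀, eN.hom_inv_id, Ext.comp_mk₀_id] at h1

end Groth.Agent.H02CA.FibreVanish
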