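import Groth.Agent.H02CA.FibreVanish.Point
import Groth.Agent.H02CA.FibreVanish.Ext

/-!
# `Hom(κ(x), K[i]) = 0` gives `H^{i-d}(K)_x = 0`
-/

set_option autoImplicit false
set_option linter.style.haveILetI false

universe u

open CategoryTheory CategoryTheory.Limits AlgebraicGeometry TopologicalSpace Opposite

attribute [local instance] HasDerivedCategory.standard

namespace Groth.Agent.H02CA.FibreVanish

open H16Derived H16Derived.KFlat H16Derived.KFlat.Stalk H16Derived.ProjFormula H16Derived.Dual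

variable {X : Scheme.{u}} (x : X) (hx : IsClosed ({x} : Set X))

include hx in
/-- At a regular closed point of dimension `d`, `Hom(κ(x), K[i]) = 0` gives `H^{i-d}(K)_x = 0`. -/
theorem notMem_support_of_hom_sky_deg [IsLocallyNoetherian X] [IsRegularLocalRing (X.presheaf.stalk x)]
    (d : ℕ) (hd : ringKrullDim (X.presheaf.stalk x) = d) (K : DCoh.D X) (hK : DCoh.IsPerfect K) (i : ℤ)
    (h : ∀ φ : DCoh.inD X (Sky.skyM x) ⟶ (shiftFunctor (DCoh.D X) i).obj K, φ = 0) :
    x ∉ CohB1.support (DCoh.HD K (i - d)) := by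
  let g := X.fromSpecResidueField x
  haveI : IsClosedImmersion g := isClosed_singleton_iff_isClosedImmersion.mp hx
  haveI := hasLpull g
  haveI := QCohD.hasRpush g
  let W := (HomologicalComplex.single X.Modules (ComplexShape.up ℤ) 0).obj (DiagKernel.pushO g)
  haveI := hasLTensorCx W
  let m : DCoh.D X := DerivedCategory.Q.obj W
  let em : m ≅ DCoh.inD X (Sky.skyM x) := ((DerivedCategory.singleFunctorIsoCompQ X.Modules 0).app (DiagKernel.pushO g)).symm
  obtain ⟨e₁⟩ := DiagKernel.nonempty_ltensor_iso g W ⟨em⟩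
  haveI := isIso_w hK
  let P := ro K
  let N := (DCoh.Lpull g).obj P
  let κ := Spec (X.residueField x)
  -- no maps from the push-forward of the dual fibre
  have hN : ∀ f : (DCoh.Rpush g).obj N ⟶ (shiftFunctor (DCoh.D X) i).obj (one X), f = 0 := by
    have h₁ : ∀ f : m⟦-i⟧ ⟶ ro P, f = 0 :=
      shift_hom_eq_zero (-i) i (by omega)
        (hom_eq_zero_of_iso em.symm ((shiftFunctor (DCoh.D X) i).mapIso (asIso (w K))) h)
    have h₂ : ∀ f : ((T X).obj (m⟦-i⟧)).obj P ⟶ one X, f = 0 := fun f =>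
      ((adjR P).homEquiv _ _).injective ((h₁ _).trans (h₁ _).symm)
    obtain ⟨et⟩ := nonempty_T_o m (-i)
    obtain ⟨et'⟩ := nonempty_T_o (((T X).obj m).obj P) (-i)
    let eR : ((T X).obj m).obj P ≅ (DCoh.Rpush g).obj N :=
      H16Derived.Dual.σ m P ≪≫ (ltensorCxIsoT W).app P ≪≫ e₁.app P
    let eA : ((T X).obj (m⟦-i⟧)).obj P ≅ ((DCoh.Rpush g).obj N)⟦-i⟧ :=
      ((T X).flip.obj P).mapIso (et.symm ≪≫ H16Derived.Dual.σ m (o X (-i))) ≪≫
        α (o X (-i)) m P ≪≫ H16Derived.Dual.σ (o X (-i)) (((T X).obj m).obj P) ≪≫ et' ≪≫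
        (shiftFunctor (DCoh.D X) (-i)).mapIso eR
    exact hom_shift_eq_zero (-i) i (by omega) (hom_eq_zero_of_iso eA (Iso.refl _) h₂)
  -- the skyscraper in degree `d - i`
  let e : ℤ := d - i
  haveI := DiagKernel.isIso_rpushQHom g
  let esky : (DCoh.Rpush g).obj ((DerivedCategory.singleFunctor κ.Modules e).obj (Coh.structureModule κ)) ≅
      (shiftFunctor (DCoh.D X) (-e)).obj (DCoh.inD X (Sky.skyM x)) :=
    (DCoh.Rpush g).mapIso ((DerivedCategory.singleFunctorIsoCompQ κ.Modules e).app _) ≪≫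
      ((asIso (DiagKernel.rpushQHom g)).app
        ((HomologicalComplex.single κ.Modules (ComplexShape.up ℤ) e).obj (Coh.structureModule κ))).symm ≪≫
      DerivedCategory.Q.mapIso
        ((HomologicalComplex.singleMapHomologicalComplex (push g) (ComplexShape.up ℤ) e).app (Coh.structureModule κ)) ≪≫
      ((DerivedCategory.singleFunctorIsoCompQ X.Modules e).app (DiagKernel.pushO g)).symm ≪≫
      Sky.skyShiftIso x e
  obtain ⟨η, hη⟩ := exists_hom_sky_ne_zero x hx d hd
  have hNe : ∀ π : N ⟶ (DerivedCategory.singleFunctor κ.Modules e).obj (Coh.structureModule κ), π = 0 := by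
    intro π
    by_contra hπ
    obtain ⟨s, hs⟩ := exists_section_of_ne_zero default (isField_stalk_residueField x default) N e π hπ
    let η' := (shiftFunctor (DCoh.D X) (-e)).map η ≫
      (shiftFunctorAdd' (DCoh.D X) (d : ℤ) (-e) i (by omega)).inv.app (DCoh.inD X (Coh.structureModule X)) ≫
      (shiftFunctor (DCoh.D X) i).map oneIso.hom
    have h0 := congrArg (fun t => (DCoh.Rpush g).map s ≫ t) (hN ((DCoh.Rpush g).map π ≫ esky.hom ≫ η'))
    simp only [← Functor.map_comp_assoc, hs, CategoryTheory.Functor.map_id, Category.id_comp, comp_zero] at h0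
    rw [Preadditive.IsIso.comp_left_eq_zero] at h0
    dsimp only [η'] at h0
    rw [← Category.assoc, Preadditive.IsIso.comp_right_eq_zero, Preadditive.IsIso.comp_right_eq_zero] at h0
    exact hη ((shiftFunctor (DCoh.D X) (-e)).map_injective (h0.trans (Functor.map_zero _ _ _).symm))
  have hP : ∀ φ : P ⟶ (shiftFunctor (DCoh.D X) (i - d)).obj (DCoh.inD X (Sky.skyM x)), φ = 0 := by
    rw [show i - (d : ℤ) = -e by omega]
    exact hom_eq_zero_of_iso (Iso.refl P) esky fun f =>
      ((lpullRpushAdj g).homEquiv _ _).symm.injective ((hNe _).trans (hNe _).symm)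
  exact Sky.support_congr ((DerivedCategory.homologyFunctor _ (i - d)).mapIso (asIso (w K)).symm)
    (notMem_support_ro x hx (isPerfect_ro hK) (i - d) hP)

end Groth.Agent.H02CA.FibreVanish
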