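import Groth.Agent.H02CA.DiagKernel
import Groth.Agent.H02CA.Sky.HomPoint
import Groth.Agent.H16Derived.KFlat.PerfFibre
import Groth.Agent.H16Derived.KFlat.GammaDerived
import Groth.Agent.H4DR.TorAmp.Residue

/-!
# A perfect object with a vanishing derived fibre has vanishing cohomology
-/

set_option autoImplicit false
set_option linter.style.haveILetI false

universe u

open CategoryTheory CategoryTheory.Limits AlgebraicGeometry TensorProduct

attribute [local instance] HasDerivedCategory.standard

namespace Groth.Agent.H02CA.FibreVanish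

open H16Derived.KFlat.Stalk

variable {X V Z : Scheme.{u}}

/-- Exactness of a complex of finite free stalks from exactness of its fibre. -/
theorem notMem_support_homology (f : Z ⟶ V) (p : Z) (hp : IsField (Z.presheaf.stalk p))
    (hs : Function.Surjective (f.stalkMap p).hom) (S : CochainComplex V.Modules ℤ)
    (hS : DCoh.IsStrictlyPerfect S) (i : ℤ)
    (h : IsZero ((DerSch.stalkFunctor Z p).obj
        ((((Scheme.Modules.pullback f).mapHomologicalComplex (ComplexShape.up ℤ)).obj S).homology i))) :
    f.base p ∉ CohB1.support (S.homology i) := by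
  letI : Field (Z.presheaf.stalk p) := hp.toField
  letI := H06Mod.stalkAlgebra f p
  let R := V.presheaf.stalk (f.base p)
  let k := Z.presheaf.stalk p
  let y := f.base p
  let d₁ : (S.X (i - 1)).presheaf.stalk y →ₗ[R] (S.X i).presheaf.stalk y := H06Mod.stalkLin (S.d (i - 1) i) y
  let d₂ : (S.X i).presheaf.stalk y →ₗ[R] (S.X (i + 1)).presheaf.stalk y := H06Mod.stalkLin (S.d i (i + 1)) y
  -- the fibre is exact
  let P := ((Scheme.Modules.pullback f).mapHomologicalComplex (ComplexShape.up ℤ)).obj S
  let C := ((DerSch.stalkFunctor Z p).mapHomologicalComplex (ComplexShape.up ℤ)).obj P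
  have hC : C.ExactAt i := by
    rw [HomologicalComplex.exactAt_iff_isZero_homology]
    exact h.of_iso ((P.sc i).mapHomologyIso (DerSch.stalkFunctor Z p))
  rw [HomologicalComplex.exactAt_iff' _ (i - 1) i (i + 1) (by simp) (by simp),
    ShortComplex.ShortExact.moduleCat_exact_iff_function_exact] at hC
  let e : ∀ j, k ⊗[R] (S.X j).presheaf.stalk y ≃ₗ[k] ((Scheme.Modules.pullback f).obj (S.X j)).presheaf.stalk p :=
    fun j => H06Mod.pullStalkEquiv f (S.X j) p
  have hk : Function.Exact (d₁.baseChange k) (d₂.baseChange k) := by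
    refine (Function.Exact.iff_of_ladder_linearEquiv (R := k) (e₁ := e (i - 1)) (e₂ := e i) (e₃ := e (i + 1))
      (f₁₂ := d₁.baseChange k) (f₂₃ := d₂.baseChange k)
      (g₁₂ := H06Mod.stalkLin ((Scheme.Modules.pullback f).map (S.d (i - 1) i)) p)
      (g₂₃ := H06Mod.stalkLin ((Scheme.Modules.pullback f).map (S.d i (i + 1))) p) ?_ ?_).1 hC
    · exact LinearMap.ext fun t => (pullStalkLin_naturality f p (S.d (i - 1) i) t).symm
    · exact LinearMap.ext fun t => (pullStalkLin_naturality f p (S.d i (i + 1)) t).symm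
  haveI : Module.Finite R ((S.X i).presheaf.stalk y) :=
    H06Mod.finite_stalk _ (H29Fitt.isFT_of_isFP _ (H8Props.FinLocFree.isFP_of_isFinLocFree _ (hS.2 i))) y
  haveI : Module.Free R ((S.X i).presheaf.stalk y) := H8Props.FinLocFree.free_stalk _ (hS.2 i) y
  haveI : Module.Free R ((S.X (i + 1)).presheaf.stalk y) := H8Props.FinLocFree.free_stalk _ (hS.2 (i + 1)) y
  have hcomp : d₂ ∘ₗ d₁ = 0 := LinearMap.ext fun t => by
    have h := congr(($(congrArg (DerSch.stalkFunctor V y).map (S.d_comp_d (i - 1) i (i + 1)))).hom t)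
    rw [Functor.map_comp, Functor.map_zero] at h
    exact h
  obtain ⟨δ, hδ, hkill⟩ := H4DR.TorAmp.exists_smul_mem_range (k := k) hs d₁ d₂ hcomp hk
  have hu : IsUnit δ := by
    obtain ⟨b, hb⟩ := hp.mul_inv_cancel hδ
    exact IsUnit.of_map (f.stalkMap p).hom δ (.of_mul_eq_one b hb)
  -- the stalk complex is exact
  let C' := ((DerSch.stalkFunctor V y).mapHomologicalComplex (ComplexShape.up ℤ)).obj S
  have hC' : C'.ExactAt i := by
    rw [HomologicalComplex.exactAt_iff' _ (i - 1) i (i + 1) (by simp) (by simp),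
      ShortComplex.ShortExact.moduleCat_exact_iff_function_exact]
    show Function.Exact d₁ d₂
    refine fun x => ⟨fun hx => ?_, ?_⟩
    · obtain ⟨z, hz⟩ := hkill R (x ⊗ₜ[R] (1 : R)) (by rw [LinearMap.rTensor_tmul, hx, zero_tmul])
      obtain ⟨z', rfl⟩ := (TensorProduct.rid R _).symm.surjective z
      have h2 := congrArg (TensorProduct.rid R _) hz
      rw [TensorProduct.rid_symm_apply, LinearMap.rTensor_tmul, map_smul, TensorProduct.rid_tmul,
        TensorProduct.rid_tmul, one_smul, one_smul] at h2
      obtain ⟨δ', hδ'⟩ := hu.exists_left_inv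
      exact ⟨δ' • z', by rw [map_smul, h2, smul_smul, hδ', one_smul]⟩
    · rintro ⟨z, rfl⟩
      exact LinearMap.congr_fun hcomp z
  rw [HomologicalComplex.exactAt_iff_isZero_homology] at hC'
  have hz : IsZero ((DerSch.stalkFunctor V y).obj (S.homology i)) :=
    hC'.of_iso ((S.sc i).mapHomologyIso (DerSch.stalkFunctor V y)).symm
  exact not_not.2 (ModuleCat.subsingleton_of_isZero hz)

/-- Vanishing of the cohomology of the derived fibre at a point gives vanishing of cohomology. -/
theorem notMem_support_of_lpull (K : DCoh.D X) (hK : DCoh.IsPerfect K) (x : X)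
    [DCoh.HasLpull (X.fromSpecResidueField x)] (i : ℤ)
    (h : IsZero (DCoh.HD ((DCoh.Lpull (X.fromSpecResidueField x)).obj K) i)) :
    x ∉ CohB1.support (DCoh.HD K i) := by
  obtain ⟨W, hxW, S, hS, ⟨α⟩⟩ := (isPerfect_iff K).1 hK x
  obtain ⟨f, hf, hfp⟩ := exists_lift_residueField W ⟨x, hxW⟩
  obtain ⟨P, hP, ⟨e⟩⟩ := exists_kflat_rep K
  haveI := hasLpull f
  let g := X.fromSpecResidueField x
  let p : Spec (X.residueField x) := default
  let β : DCoh.toD _ S ≅ DCoh.toD _ ((DCoh.restrictCx W).obj P) :=
    α ≪≫ (rd W.ι).mapIso e.symm ≪≫ (rdQ W.ι).app P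
  let θ : DCoh.HD ((DCoh.Lpull g).obj K) i ≅
      (((Scheme.Modules.pullback f).mapHomologicalComplex (ComplexShape.up ℤ)).obj S).homology i :=
    (DerivedCategory.homologyFunctor _ i).mapIso
        ((DCoh.Lpull g).mapIso e.symm ≪≫ lpullObjIso g P hP ≪≫
          DerivedCategory.Q.mapIso (pullbackFactorIso W f g hf P) ≪≫
          (lpullObjIso f _ (kflat_restrict W hP)).symm ≪≫ (DCoh.Lpull f).mapIso β.symm ≪≫
          lpullObjIso f S (kflat_of_isStrictlyPerfect hS)) ≪≫
      (DerivedCategory.homologyFunctorFactors _ i).app _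
  have hs : Function.Surjective (f.stalkMap p).hom := by
    haveI : IsPreimmersion (f ≫ W.ι) := hf ▸ inferInstance
    haveI : IsPreimmersion f := IsPreimmersion.of_comp f W.ι
    exact f.stalkMap_surjective p
  have key := notMem_support_homology f p (isField_stalk_residueField x p) hs S hS i
    ((DerSch.stalkFunctor _ p).map_isZero (h.of_iso θ.symm))
  rw [hfp p] at key
  have key' := Sky.support_congr (((DerivedCategory.homologyFunctorFactors _ i).app S).symm ≪≫
    (DerivedCategory.homologyFunctor _ i).mapIso α ≪≫ homologyRdIso W.ι K i) key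
  intro hsup
  refine hsup ?_
  haveI : Subsingleton (((DCoh.HD K i).restrict W.ι).presheaf.stalk ⟨x, hxW⟩) := not_not.1 key'
  exact AddCommGrpCat.subsingleton_of_isZero (IsZero.of_iso
    (@AddCommGrpCat.isZero_of_subsingleton _ (inferInstanceAs (Subsingleton (((DCoh.HD K i).restrict W.ι).presheaf.stalk ⟨x, hxW⟩))))
    ((Scheme.Modules.restrictStalkNatIso W.ι ⟨x, hxW⟩).app _).symm)

end Groth.Agent.H02CA.FibreVanish
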