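import Groth.Agent.H02CA.FibreVanish.Local
import Groth.Agent.H16Derived.KFlat.PerfNoeth

/-!
# `H^i(X, K ⊗^L κ(x)) = 0` gives `H^i(K)_x = 0`
-/

set_option autoImplicit false
set_option linter.style.haveILetI false

universe u

open CategoryTheory CategoryTheory.Limits AlgebraicGeometry TopologicalSpace Opposite

attribute [local instance] HasDerivedCategory.standard

namespace Groth.Agent.H02CA.FibreVanish

open H16Derived H16Derived.KFlat H16Derived.KFlat.Stalk H16Derived.ProjFormula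

section closed

variable {X Y : Scheme.{u}} (δ : X ⟶ Y) [IsClosedImmersion δ]

/-- `- ⊗^L δ_*O = Rδ_* Lδ^*`, for the derived tensor product with a module. -/
theorem nonempty_ltensorMod_iso [DCoh.HasLTensorMod (DiagKernel.pushO δ)] [DCoh.HasLpull δ] [DCoh.HasRpush δ] :
    Nonempty (DCoh.LTensorMod (DiagKernel.pushO δ) ≅ DCoh.Lpull δ ⋙ DCoh.Rpush δ) := by
  let M := DiagKernel.pushO δ
  let ρl : CochainComplex Y.Modules ℤ ⥤ (lkflat Y).FullSubcategory := (lkflat Y).lift res isKFlat_flip_res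
  let ρr : CochainComplex Y.Modules ℤ ⥤ (kflat Y).FullSubcategory := (kflat Y).lift res isKFlat_res
  haveI := DiagKernel.isIso_rpushQHom δ
  let eM : (DCoh.tensorRightMod M).mapHomologicalComplex (ComplexShape.up ℤ) ≅ pullCx δ ⋙ pushCx δ :=
    NatIso.mapHomologicalComplex (tensorRightModIso M ≪≫ DiagKernel.tensorPushOIso δ) (ComplexShape.up ℤ) ≪≫
      NatIso.ofComponents (fun P => HomologicalComplex.Hom.isoOfComponents (fun _ => Iso.refl _)
        (fun i j _ => (Category.id_comp _).trans (Category.comp_id _).symm))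
        (fun {P P'} φ => HomologicalComplex.hom_ext _ _ fun i =>
          (Category.comp_id _).trans (Category.id_comp _).symm)
  let eL : (res (X := Y) ⋙ DerivedCategory.Q) ⋙ DCoh.LTensorMod M ≅
      res ⋙ (DCoh.tensorRightMod M).mapHomologicalComplex (ComplexShape.up ℤ) ⋙ DerivedCategory.Q :=
    Functor.isoWhiskerLeft ρl (ltensorModIso M)
  let eR : (res (X := Y) ⋙ DerivedCategory.Q) ⋙ DCoh.Lpull δ ⋙ DCoh.Rpush δ ≅
      res ⋙ (pullCx δ ⋙ pushCx δ) ⋙ DerivedCategory.Q :=
    Functor.isoWhiskerRight (Functor.isoWhiskerLeft ρr (lpullIso δ)) (DCoh.Rpush δ) ≪≫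
      Functor.isoWhiskerLeft (res ⋙ pullCx δ) (asIso (DiagKernel.rpushQHom δ)).symm
  let eres : (res (X := Y) ⋙ DerivedCategory.Q) ≅ DerivedCategory.Q :=
    haveI : ∀ P, IsIso ((Functor.whiskerRight (resψ (X := Y)) DerivedCategory.Q).app P) := fun P =>
      H16Derived.KFlat.Stalk.isIso_Q_map _ (quasiIso_resψ P)
    haveI := NatIso.isIso_of_isIso_app (Functor.whiskerRight (resψ (X := Y)) DerivedCategory.Q)
    asIso (Functor.whiskerRight (resψ (X := Y)) DerivedCategory.Q) ≪≫ DerivedCategory.Q.leftUnitor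
  let e' : DerivedCategory.Q ⋙ DCoh.LTensorMod M ≅ DerivedCategory.Q ⋙ (DCoh.Lpull δ ⋙ DCoh.Rpush δ) :=
    Functor.isoWhiskerRight eres.symm (DCoh.LTensorMod M) ≪≫ eL ≪≫
      Functor.isoWhiskerLeft res (Functor.isoWhiskerRight eM DerivedCategory.Q) ≪≫ eR.symm ≪≫
      Functor.isoWhiskerRight eres (DCoh.Lpull δ ⋙ DCoh.Rpush δ)
  exact ⟨Localization.liftNatIso DerivedCategory.Q (HomologicalComplex.quasiIso Y.Modules (ComplexShape.up ℤ)) _ _ _ _ e'⟩

end closed

section point

variable {Z : Scheme.{u}} [Subsingleton Z]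

theorem bijective_germ_top' (M : Z.Modules) (p : Z) : Function.Bijective (M.presheaf.germ ⊤ p trivial) := by
  refine ⟨fun a b h => ?_, fun t => ?_⟩
  · exact TopCat.Presheaf.section_ext ⟨M.presheaf, M.isSheaf⟩ ⊤ a b fun q hq => by
      obtain rfl : q = p := Subsingleton.elim q p
      exact h
  · obtain ⟨W, hW, s, rfl⟩ := M.presheaf.exists_germ_eq t
    have hWtop : (⊤ : Z.Opens) ≤ W := fun q _ => (Subsingleton.elim q p) ▸ hW
    exact ⟨M.presheaf.map (homOfLE hWtop).op s, TopCat.Presheaf.germ_res_apply M.presheaf (homOfLE hWtop) p (Opens.mem_top p) s⟩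

theorem preservesHomology_gammaAb : (DCoh.gammaAb Z).PreservesHomology := by
  haveI : PreservesFiniteLimits (Scheme.Modules.toPresheaf Z) :=
    PreservesLimitsOfSize.preservesFiniteLimits _
  haveI : PreservesFiniteLimits ((evaluation (TopologicalSpace.Opens Z)ᵒᵖ AddCommGrpCat.{u}).obj (op ⊤)) :=
    ⟨fun J _ _ => inferInstance⟩
  haveI : PreservesFiniteLimits (DCoh.gammaAb Z) := comp_preservesFiniteLimits _ _
  haveI : (DCoh.gammaAb Z).PreservesEpimorphisms := by
    refine ⟨fun {M N} g _ => (AddCommGrpCat.epi_iff_surjective _).2 fun (b : Γ(N, ⊤)) => ?_⟩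
    rcases isEmpty_or_nonempty Z with hZ | ⟨⟨p⟩⟩
    · refine ⟨0, (TopCat.Presheaf.section_ext ⟨N.presheaf, N.isSheaf⟩ ⊤ _ _ fun q _ => ?_)⟩
      exact (hZ.false q).elim
    · obtain ⟨W, hW, hp, s, hs⟩ := H10Coh.exists_nhds_lift_of_epi g ⊤ b p trivial
      have hWtop : W = ⊤ := top_unique fun q _ => (Subsingleton.elim q p) ▸ hp
      subst hWtop
      refine ⟨s, hs.trans ?_⟩
      rw [show (homOfLE hW).op = 𝟙 _ from Subsingleton.elim _ _, CategoryTheory.Functor.map_id]
      rfl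
  exact (DCoh.gammaAb Z).preservesHomology_of_preservesEpis_and_kernels

/-- On a one-point scheme, vanishing of `H^i RΓ` gives vanishing of the `i`-th cohomology sheaf. -/
theorem isZero_HD_of_RΓ [DCoh.HasRΓ Z] (L : DCoh.D Z) (i : ℤ)
    (h : IsZero ((DerivedCategory.homologyFunctor AddCommGrpCat.{u} i).obj ((DCoh.RΓ Z).obj L))) :
    IsZero (DCoh.HD L i) := by
  haveI := isGrothendieckAbelian_modules (X := Z)
  obtain ⟨I, hI, ⟨e⟩⟩ := KInjRes.exists_kInjective_iso (A := Z.Modules) L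
  haveI := hI
  haveI := preservesHomology_gammaAb (Z := Z)
  haveI := GammaAcyclic.isIso_gammaUnit Z I
  let G := (DCoh.gammaAb Z).mapHomologicalComplex (ComplexShape.up ℤ)
  let e₁ : (DCoh.RΓ Z).obj L ≅ DerivedCategory.Q.obj (G.obj I) :=
    (DCoh.RΓ Z).mapIso (e ≪≫ ((DerivedCategory.quotientCompQhIso Z.Modules).app I).symm) ≪≫
      (asIso ((GammaAcyclic.gammaUnit Z).app ((HomotopyCategory.quotient _ _).obj I))).symm ≪≫
      DerivedCategory.Qh.mapIso (((DCoh.gammaAb Z).mapHomotopyCategoryFactors (ComplexShape.up ℤ)).app I) ≪≫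
      (DerivedCategory.quotientCompQhIso AddCommGrpCat.{u}).app _
  have h' : IsZero ((DCoh.gammaAb Z).obj (I.homology i)) := h.of_iso
    (((I.sc i).mapHomologyIso (DCoh.gammaAb Z)).symm ≪≫
      ((DerivedCategory.homologyFunctorFactors AddCommGrpCat.{u} i).app (G.obj I)).symm ≪≫
      (DerivedCategory.homologyFunctor _ i).mapIso e₁.symm)
  have hz : IsZero (I.homology i) := by
    refine isZero_of_stalk fun p => @ModuleCat.isZero_of_subsingleton _ _ ((DerSch.stalkFunctor Z p).obj (I.homology i)) ?_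
    haveI : Subsingleton Γ(I.homology i, (⊤ : Z.Opens)) := AddCommGrpCat.subsingleton_of_isZero h'
    exact (bijective_germ_top' (I.homology i) p).2.subsingleton
  exact hz.of_iso ((DerivedCategory.homologyFunctor _ i).mapIso e ≪≫ (DerivedCategory.homologyFunctorFactors Z.Modules i).app I)

end point

variable {X : Scheme.{u}} (x : X) (hx : IsClosed ({x} : Set X))

include hx in
/-- Vanishing of `H^i(X, K ⊗^L κ(x))` gives vanishing of `H^i(K)` at `x`. -/
theorem notMem_support_of_tensor_sky (K : DCoh.D X) (hK : DCoh.IsPerfect K)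
    [DCoh.HasLTensorMod (Sky.skyM x)] [DCoh.HasRΓ X] (i : ℤ)
    (h : IsZero ((DerivedCategory.homologyFunctor AddCommGrpCat.{u} i).obj
          ((DCoh.RΓ X).obj ((DCoh.LTensorMod (Sky.skyM x)).obj K)))) :
    x ∉ CohB1.support (DCoh.HD K i) := by
  let g := X.fromSpecResidueField x
  haveI : IsClosedImmersion g := isClosed_singleton_iff_isClosedImmersion.mp hx
  haveI := hasLpull g
  haveI := QCohD.hasRpush g
  haveI := GammaAcyclic.hasRΓ (Spec (X.residueField x))
  haveI : DCoh.HasLTensorMod (DiagKernel.pushO g) := ‹DCoh.HasLTensorMod (Sky.skyM x)›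
  obtain ⟨e⟩ := nonempty_ltensorMod_iso g
  obtain ⟨r⟩ := GammaAcyclic.nonempty_rpush_RΓ_iso g
  refine notMem_support_of_lpull K hK x i (isZero_HD_of_RΓ _ i (h.of_iso ?_))
  exact (DerivedCategory.homologyFunctor AddCommGrpCat.{u} i).mapIso
    ((r.app ((DCoh.Lpull g).obj K)).symm ≪≫ ((DCoh.RΓ X).mapIso (e.app K)).symm)

include hx in
/-- The same with an open neighbourhood. -/
theorem exists_open_of_tensor_sky [IsLocallyNoetherian X] [CompactSpace X] (K : DCoh.D X) (hK : DCoh.IsPerfect K)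
    (i : ℤ) (h : x ∉ CohB1.support (DCoh.HD K i)) :
    ∃ U : X.Opens, x ∈ U ∧ ∀ y : X, y ∈ U → y ∉ CohB1.support (DCoh.HD K i) :=
  ⟨⟨(CohB1.support (DCoh.HD K i))ᶜ,
    (H10Coh.isClosed_support _ ((isCohD_and_bounded_of_isPerfect hK).1 i).2).isOpen_compl⟩, h, fun _ hy => hy⟩

end Groth.Agent.H02CA.FibreVanish
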