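import Groth.Agent.H02CA.FibreVanish.Dual
import Groth.Agent.H16Derived.BLoc.Main

/-!
# Maps to a shift of the structure sheaf over a one-point field scheme split
-/

set_option autoImplicit false
set_option linter.style.haveILetI false

universe u

open CategoryTheory CategoryTheory.Limits AlgebraicGeometry TopologicalSpace Opposite

attribute [local instance] HasDerivedCategory.standard

namespace Groth.Agent.H02CA.FibreVanish

variable {Z : Scheme.{u}} [Subsingleton Z]

theorem hom_ext_point {M N : Z.Modules} (f g : M ⟶ N) (p : Z) (h : ∀ a : Γ(M, (⊤ : Z.Opens)), f.app ⊤ a = g.app ⊤ a) :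
    f = g := by
  refine Scheme.Modules.hom_ext f g fun U => ?_
  ext a
  by_cases hp : p ∈ U
  · obtain rfl : U = ⊤ := top_unique fun q _ => (Subsingleton.elim q p) ▸ hp
    exact h a
  · exact TopCat.Presheaf.section_ext ⟨N.presheaf, N.isSheaf⟩ U _ _ fun q hq =>
      absurd ((Subsingleton.elim q p) ▸ hq) hp

/-- A nonzero map to a shift of `O` over a one-point field scheme has a section. -/
theorem exists_section_of_ne_zero (p : Z) (hp : IsField (Z.presheaf.stalk p)) (L : DCoh.D Z) (e : ℤ)
    (π : L ⟶ (DerivedCategory.singleFunctor Z.Modules e).obj (Coh.structureModule Z)) (hπ : π ≠ 0) :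
    ∃ s : (DerivedCategory.singleFunctor Z.Modules e).obj (Coh.structureModule Z) ⟶ L, s ≫ π = 𝟙 _ := by
  haveI := preservesHomology_gammaAb (Z := Z)
  let O := Coh.structureModule Z
  let C := DerivedCategory.Q.objPreimage L
  let eC : DerivedCategory.Q.obj C ≅ L := DerivedCategory.Q.objObjPreimageIso L
  let i₀ : (DerivedCategory.singleFunctor Z.Modules e).obj O ≅
      DerivedCategory.Q.obj ((HomologicalComplex.single Z.Modules (ComplexShape.up ℤ) e).obj O) :=
    (DerivedCategory.singleFunctorIsoCompQ Z.Modules e).app O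
  obtain ⟨C', t, ht, f₀, hf₀⟩ := DerivedCategory.right_fac (eC.hom ≫ π ≫ i₀.hom)
  let f : C' ⟶ (HomologicalComplex.single Z.Modules (ComplexShape.up ℤ) e).obj O := f₀
  have hf : eC.hom ≫ π ≫ i₀.hom = inv (DerivedCategory.Q.map t) ≫ DerivedCategory.Q.map f := hf₀
  clear_value f
  haveI := ht
  let c : C'.X e ⟶ O := f.f e ≫ (HomologicalComplex.singleObjXSelf (ComplexShape.up ℤ) e O).hom
  by_cases hzc : C'.iCycles e ≫ c = 0
  · -- null homotopic
    exfalso
    apply hπ
    let d := C'.d e (e + 1)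
    let N := (O.presheaf.stalk p : Type u)
    letI : Field (Z.presheaf.stalk p) := hp.toField
    let dl : (C'.X e).presheaf.stalk p →ₗ[Z.presheaf.stalk p] (C'.X (e + 1)).presheaf.stalk p := H06Mod.stalkLin d p
    let cl : (C'.X e).presheaf.stalk p →ₗ[Z.presheaf.stalk p] N := H06Mod.stalkLin c p
    have hker : LinearMap.ker dl ≤ LinearMap.ker cl := by
      intro a ha
      obtain ⟨s, rfl⟩ := (bijective_germ_top' (C'.X e) p).2 a
      have hds : d.app ⊤ s = 0 := (bijective_germ_top' (C'.X (e + 1)) p).1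
        ((H06Mod.stalkLin_germ d p ⊤ trivial s).symm.trans (ha.trans (map_zero _).symm))
      have hex : (ShortComplex.mk (C'.iCycles e) d (C'.iCycles_d e (e + 1))).Exact :=
        ShortComplex.exact_of_f_is_kernel _ (C'.cyclesIsKernel e (e + 1) (by simp))
      have hex' := hex.map (DCoh.gammaAb Z)
      rw [ShortComplex.ab_exact_iff] at hex'
      obtain ⟨z, hz⟩ := hex' s hds
      refine (H06Mod.stalkLin_germ c p ⊤ trivial s).trans ?_
      have h0 : (C'.iCycles e ≫ c).app ⊤ z = (0 : Γ(O, (⊤ : Z.Opens))) := by rw [hzc]; rfl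
      rw [← hz]
      exact (congrArg (O.presheaf.germ ⊤ p trivial) h0).trans (map_zero _)
    obtain ⟨ψ, hψ⟩ := LinearMap.exists_extend
      ((Submodule.liftQ _ cl hker).comp dl.quotKerEquivRange.symm.toLinearMap)
    have hψd : ∀ a, ψ (dl a) = cl a := fun a => by
      refine (LinearMap.congr_fun hψ ⟨dl a, LinearMap.mem_range_self dl a⟩).trans ?_
      show Submodule.liftQ _ cl hker (dl.quotKerEquivRange.symm ⟨dl a, _⟩) = cl a
      rw [LinearMap.quotKerEquivRange_symm_apply_image]
      rfl
    let η : O ⟶ H06Mod.sky p N := H06Mod.homOfStalk LinearMap.id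
    haveI : IsIso η := by
      rw [Scheme.Modules.Hom.isIso_iff_isIso_app]
      intro U
      rw [ConcreteCategory.isIso_iff_bijective]
      by_cases hU : p ∈ U
      · obtain rfl : U = ⊤ := top_unique fun q _ => (Subsingleton.elim q p) ▸ hU
        refine ⟨fun a b hab => (bijective_germ_top' O p).1 ?_, fun g => ?_⟩
        · exact congrArg (H06Mod.skyEval p N ⊤ trivial) hab
        · obtain ⟨a, ha⟩ := (bijective_germ_top' O p).2 (H06Mod.skyEval p N ⊤ trivial g)
          exact ⟨a, H06Mod.skyEval_ext p N fun _ => ha⟩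
      · refine ⟨fun a b _ => TopCat.Presheaf.section_ext ⟨O.presheaf, O.isSheaf⟩ U a b fun q hq =>
          absurd ((Subsingleton.elim q p) ▸ hq) hU, fun g => ⟨0, H06Mod.skyEval_ext p N fun hx => absurd hx hU⟩⟩
    let h : C'.X (e + 1) ⟶ O := H06Mod.homOfStalk ψ ≫ inv η
    have hdh : d ≫ h = c := by
      rw [← cancel_mono η, Category.assoc, Category.assoc, IsIso.inv_hom_id, Category.comp_id]
      refine hom_ext_point _ _ p fun a => H06Mod.skyEval_ext p N fun hx => ?_
      show ψ ((C'.X (e + 1)).presheaf.germ ⊤ p hx (d.app ⊤ a)) = O.presheaf.germ ⊤ p hx (c.app ⊤ a)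
      rw [← H06Mod.stalkLin_germ d p ⊤ hx a, ← H06Mod.stalkLin_germ c p ⊤ hx a]
      exact hψd _
    let hh : ∀ i j, (ComplexShape.up ℤ).Rel j i →
        (C'.X i ⟶ ((HomologicalComplex.single Z.Modules (ComplexShape.up ℤ) e).obj O).X j) := fun i j hij =>
      if hj : j = e then (C'.XIsoOfEq (show i = e + 1 by rw [← hj]; exact hij.symm)).hom ≫ h ≫
        (HomologicalComplex.singleObjXIsoOfEq (ComplexShape.up ℤ) e O j hj).inv else 0
    have hfeq : f = Homotopy.nullHomotopicMap' hh := by
      refine HomologicalComplex.to_single_hom_ext ?_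
      rw [Homotopy.nullHomotopicMap'_f (show (ComplexShape.up ℤ).Rel (e - 1) e by simp)
        (show (ComplexShape.up ℤ).Rel e (e + 1) by simp), HomologicalComplex.single_obj_d, comp_zero, add_zero]
      simp only [hh, dif_pos]
      rw [HomologicalComplex.XIsoOfEq_rfl, Iso.refl_hom, Category.id_comp, ← Category.assoc, hdh]
      simp only [c, Category.assoc, HomologicalComplex.singleObjXSelf]
      rw [Iso.hom_inv_id, Category.comp_id]
    have hQf : DerivedCategory.Q.map f = 0 :=
      H16Derived.BLoc.Q_map_eq_zero_of_homotopy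
        ((Homotopy.ofEq hfeq).trans (Homotopy.nullHomotopy' hh))
    rw [hQf, comp_zero, Preadditive.IsIso.comp_left_eq_zero, Preadditive.IsIso.comp_right_eq_zero] at hf
    exact hf
  · -- a section
    have hz : ∃ z : Γ(C'.cycles e, (⊤ : Z.Opens)), (C'.iCycles e ≫ c).app ⊤ z ≠ (0 : Γ(Z, ⊤)) := by
      by_contra hall
      exact hzc (hom_ext_point _ _ p fun a => (not_not.1 fun h => hall ⟨a, h⟩))
    obtain ⟨z, hz⟩ := hz
    have hb : Function.Bijective (Z.presheaf.germ ⊤ p trivial) := by
      refine ⟨fun a b hab => ?_, fun t => ?_⟩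
      · exact TopCat.Presheaf.section_ext Z.sheaf ⊤ a b fun q hq => by
          obtain rfl : q = p := Subsingleton.elim q p
          exact hab
      · obtain ⟨W, hW, w, rfl⟩ := Z.presheaf.exists_germ_eq t
        have hWtop : (⊤ : Z.Opens) ≤ W := fun q _ => (Subsingleton.elim q p) ▸ hW
        exact ⟨Z.presheaf.map (homOfLE hWtop).op w, Z.presheaf.germ_res_apply (homOfLE hWtop) p trivial w⟩
    obtain ⟨v, hv⟩ : ∃ v : Γ(Z, ⊤), v * (show Γ(Z, ⊤) from (C'.iCycles e ≫ c).app ⊤ z) = (1 : Γ(Z, ⊤)) := by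
      obtain ⟨b, hb'⟩ := hp.mul_inv_cancel (a := Z.presheaf.germ ⊤ p trivial ((C'.iCycles e ≫ c).app ⊤ z))
        (fun h0 => hz (hb.1 (h0.trans (map_zero _).symm)))
      obtain ⟨v, rfl⟩ := hb.2 b
      refine ⟨v, hb.1 ?_⟩
      rw [map_mul, map_one, mul_comm]
      exact hb'
    let σ : O ⟶ C'.cycles e := H11Tilde.homOfGlobal (C'.cycles e) (v • z)
    have hσ : σ ≫ C'.iCycles e ≫ c = 𝟙 O := by
      refine hom_ext_point _ _ p fun a => ?_
      show (C'.iCycles e ≫ c).app ⊤ (σ.app ⊤ a) = a
      rw [H11Tilde.homOfGlobal_app, Scheme.Modules.Hom.app_smul,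
        show (homOfLE (le_top : (⊤ : Z.Opens) ≤ ⊤)).op = 𝟙 _ from Subsingleton.elim _ _, CategoryTheory.Functor.map_id]
      show (show Γ(Z, ⊤) from a) * (show Γ(Z, ⊤) from (C'.iCycles e ≫ c).app ⊤ (v • z)) = a
      rw [Scheme.Modules.Hom.app_smul]
      show (show Γ(Z, ⊤) from a) * (v * (show Γ(Z, ⊤) from (C'.iCycles e ≫ c).app ⊤ z)) = a
      rw [hv, mul_one]
    let ψ : (HomologicalComplex.single Z.Modules (ComplexShape.up ℤ) e).obj O ⟶ C' :=
      HomologicalComplex.mkHomFromSingle (σ ≫ C'.iCycles e) (fun j _ => by simp)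
    have hψ : ψ ≫ f = 𝟙 _ := by
      refine HomologicalComplex.from_single_hom_ext ?_
      have := hσ
      simp only [c, ← Category.assoc] at this
      rw [HomologicalComplex.comp_f, HomologicalComplex.mkHomFromSingle_f, HomologicalComplex.id_f,
        ← cancel_mono (HomologicalComplex.singleObjXSelf (ComplexShape.up ℤ) e O).hom, Category.id_comp]
      simp only [Category.assoc] at this ⊢
      rw [this, Category.comp_id]
    refine ⟨i₀.hom ≫ DerivedCategory.Q.map ψ ≫ DerivedCategory.Q.map t ≫ eC.hom, ?_⟩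
    have h1 : π = eC.inv ≫ (inv (DerivedCategory.Q.map t) ≫ DerivedCategory.Q.map f) ≫ i₀.inv := by
      rw [← hf]; simp
    rw [h1]
    simp only [Category.assoc, Iso.hom_inv_id_assoc, IsIso.hom_inv_id_assoc]
    rw [← DerivedCategory.Q.map_comp_assoc, hψ, CategoryTheory.Functor.map_id, Category.id_comp,
      Iso.hom_inv_id]

end Groth.Agent.H02CA.FibreVanish
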